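import Groth.Agent.H64.Boot.Key

/-!
# Cancellation for maps representable by algebraic spaces (conditional on the bootstrap theorem)

If `a : F ⟶ G` is representable by algebraic spaces, flat, surjective and locally of finite presentation
and `a ≫ b` is representable by algebraic spaces, then so is `b`.  Conditional on `Boot.BootHyp S`.
-/

set_option autoImplicit false
universe u
open CategoryTheory CategoryTheory.Limits AlgebraicGeometry Opposite

namespace Groth.Agent.H64.Boot2

open AlgSp

variable {S : Scheme.{u}}

/-- `RepBySpWith Q` is stable under base change along arbitrary maps of sheaves. -/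
theorem repBySpWith_of_isPullback (Q : MorphismProperty (Sp S)) {F G F' G' : Sp S} {a : F ⟶ G}
    {g : G' ⟶ G} {fst : F' ⟶ F} {a' : F' ⟶ G'} (sq : IsPullback fst a' a g)
    (ha : RepBySpWith Q a.hom) : RepBySpWith Q a'.hom := by
  rw [repBySpWith_hom_iff] at ha ⊢
  intro U ξ F'' fst' snd' sq'
  exact ha (ξ ≫ g) (fst' ≫ fst) snd' (sq'.paste_horiz sq)

/-- Cancellation: conditional on the bootstrap theorem. -/
theorem repBySp_of_comp (B : Groth.Agent.H64.Boot.BootHyp S) {F G H : Sp S} (a : F ⟶ G) (b : G ⟶ H)
    (ha : RepBySpWith (IsSurjectiveMor ⊓ LocP @Flat ⊓ LocP @LocallyOfFinitePresentation) a.hom)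
    (hab : RepBySp (a ≫ b).hom) : RepBySp b.hom := by
  rw [repBySp_hom_iff] at hab ⊢
  intro U ξ G' fst snd sq
  have sqa : IsPullback (pullback.fst a fst) (pullback.snd a fst) a fst := IsPullback.of_hasPullback _ _
  have hP : IsAlgSpace (pullback a fst) :=
    hab ξ (pullback.fst a fst) (pullback.snd a fst ≫ snd) (sqa.paste_vert sq)
  exact B G' ⟨pullback a fst, hP⟩ (pullback.snd a fst) (repBySpWith_of_isPullback _ sqa ha)

end Groth.Agent.H64.Boot2
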