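import Groth.Agent.H65.BootDiag
import Groth.Agent.H49.AlgSpQuot
import Groth.Agent.H50.Fppf
import Groth.Agent.H50.Quot

/-!
# The final bootstrap theorem for sheaves from the one for equivalence relations of schemes

`FinalHyp S` is (verbatim) the statement of the milestone "the fppf quotient of a flat, locally finitely
presented equivalence relation of schemes is an algebraic space".  Under it, an fppf sheaf `F` receiving
a map `X ⟶ F` from an algebraic space which is representable by algebraic spaces, flat, surjective and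
locally of finite presentation is an algebraic space.
-/

set_option autoImplicit false
universe u
open CategoryTheory CategoryTheory.Limits AlgebraicGeometry Opposite

namespace Groth.Agent.H64.Boot2

open AlgSp

variable {S : Scheme.{u}}

/-- The statement of the final bootstrap theorem for equivalence relations of schemes. -/
def FinalHyp (S : Scheme.{u}) : Prop :=
  ∀ {R U : Over S} (s t : R ⟶ U) (_ : AlgSp.IsEqvRel s t) [Flat s.left]
    [LocallyOfFinitePresentation s.left] [Flat t.left] [LocallyOfFinitePresentation t.left],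
    AlgSp.IsAlgSpace (QuotSh.quot Scheme.fppfPrecoverage s t)

/-- A kernel pair of representables gives an equivalence relation of schemes. -/
theorem isEqvRel_of_isPullback {F : Sp S} {R U : Over S} (s t : R ⟶ U) (q : (yon S).obj U ⟶ F)
    (sq : IsPullback ((yon S).map t) ((yon S).map s) q q) : IsEqvRel s t := by
  have key : ∀ (T : Over S) (a b : T ⟶ U),
      (∃ r : T ⟶ R, r ≫ t = a ∧ r ≫ s = b) ↔ (yon S).map a ≫ q = (yon S).map b ≫ q := by
    intro T a b
    constructor
    · rintro ⟨r, rfl, rfl⟩
      rw [Functor.map_comp, Functor.map_comp, Category.assoc, Category.assoc, sq.w]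
    · intro h
      obtain ⟨r, hr⟩ := (yon S).map_surjective (sq.lift _ _ h)
      refine ⟨r, (yon S).map_injective ?_, (yon S).map_injective ?_⟩
      · rw [Functor.map_comp, hr, sq.lift_fst]
      · rw [Functor.map_comp, hr, sq.lift_snd]
  refine ⟨fun T r r' h1 h2 => (yon S).map_injective (sq.hom_ext ?_ ?_), fun T => ?_⟩
  · rw [← Functor.map_comp, ← Functor.map_comp, h1]
  · rw [← Functor.map_comp, ← Functor.map_comp, h2]
  · refine ⟨fun a => (key T a a).2 rfl, fun {a b} h => (key T b a).2 ((key T a b).1 h).symm,
      fun {a b c} h1 h2 => (key T a c).2 (((key T a b).1 h1).trans ((key T b c).1 h2))⟩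

/-- An epimorphism from a representable sheaf with representable kernel pair identifies its target with
the quotient sheaf. -/
theorem nonempty_quot_iso {F : Sp S} {R U : Over S} (s t : R ⟶ U) (q : (yon S).obj U ⟶ F) [Epi q]
    (sq : IsPullback ((yon S).map t) ((yon S).map s) q q) :
    Nonempty (QuotSh.quot Scheme.fppfPrecoverage s t ≅ F) := by
  have w : (yon S).map s ≫ q = (yon S).map t ≫ q := sq.w.symm
  have hiso : IsIso (pullback.lift ((yon S).map t) ((yon S).map s) w.symm :
      (yon S).obj R ⟶ pullback q q) := by
    have : pullback.lift ((yon S).map t) ((yon S).map s) w.symm =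
        (sq.isoPullback).hom := by
      apply pullback.hom_ext
      · rw [pullback.lift_fst, IsPullback.isoPullback_hom_fst]
      · rw [pullback.lift_snd, IsPullback.isoPullback_hom_snd]
    rw [this]; infer_instance
  have : Epi (pullback.lift ((yon S).map t) ((yon S).map s) w.symm :
      (yon S).obj R ⟶ pullback q q) := inferInstance
  have hI : IsIso (quotSpDesc q w) := Groth.Agent.H50.isIso_quotSpDesc _ _ q w
  let e1 : quotSp ((yon S).map s) ((yon S).map t) ≅ F := asIso (quotSpDesc q w)
  let e2 := IsColimit.coconePointUniqueUpToIso (Groth.Agent.H49.quotMapIsColimit s t)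
      (quotSpIsCoequalizer ((yon S).map s) ((yon S).map t))
  exact ⟨(show QuotSh.quot Scheme.fppfPrecoverage s t ≅ quotSp ((yon S).map s) ((yon S).map t)
    from e2) ≪≫ e1⟩

/-- **Final bootstrap for sheaves**, conditional on the final bootstrap for schemes. -/
theorem isAlgSpace_of_fppf_cover (H : FinalHyp S) {F X : Sp S} (hX : IsAlgSpace X) (p : X ⟶ F)
    (hp : RepBySpWith (IsSurjectiveMor ⊓ LocP @Flat ⊓ LocP @LocallyOfFinitePresentation) p.hom) :
    IsAlgSpace F := by
  obtain ⟨X₀, c₀, hcE, hcS⟩ := hX.atlas
  obtain ⟨R, t, s, sq, hsfl, hsfp, hss⟩ :=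
    Groth.Agent.H65.BootDiag.exists_rep_atlas_comp hX p hp c₀ hcE hcS (c₀ ≫ p)
  -- the other projection is flat and lfp as well
  obtain ⟨R', t', s', sq', hsfl', hsfp', -⟩ :=
    Groth.Agent.H65.BootDiag.exists_rep_atlas_comp hX p hp c₀ hcE hcS (c₀ ≫ p)
  have htprops : Flat t.left ∧ LocallyOfFinitePresentation t.left := by
    -- `sq.flip` and `sq'` are two pullbacks of the same cospan
    let e := sq.flip.isoIsPullback _ _ sq'
    obtain ⟨ε, hε⟩ := (yon S).map_surjective e.hom
    have hεiso : IsIso ε := by
      have : IsIso ((yon S).map ε) := by rw [hε]; infer_instance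
      exact isIso_of_fully_faithful (yon S) ε
    have h1 : ε ≫ s' = t := by
      apply (yon S).map_injective
      rw [Functor.map_comp, hε]
      exact IsPullback.isoIsPullback_hom_snd _ _ sq.flip sq'
    have hεl : IsIso ε.left := (Over.forget S).map_isIso ε
    rw [← h1, Over.comp_left]
    exact ⟨inferInstance, inferInstance⟩
  obtain ⟨htfl, htfp⟩ := htprops
  have hEpi : Epi (c₀ ≫ p) := by
    apply Groth.Agent.H50.epi_of_exists_local_lift
    intro T x
    obtain ⟨G, lG, σ, sqG, hfl, hfp, hsj⟩ :=
      Groth.Agent.H65.BootDiag.exists_rep_atlas_comp hX p hp c₀ hcE hcS x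
    refine ⟨_, Groth.Agent.H50.generate_singleton_mem_J σ, ?_⟩
    rintro T' g ⟨Z, a, _, ⟨_⟩, rfl⟩
    exact ⟨(yon S).map a ≫ (yon S).map lG, by
      rw [Category.assoc, sqG.w, Functor.map_comp, Category.assoc]⟩
  have hEq : IsEqvRel s t := isEqvRel_of_isPullback s t (c₀ ≫ p) sq
  obtain ⟨e⟩ := nonempty_quot_iso s t (c₀ ≫ p) sq
  exact (H s t hEq).of_iso e

end Groth.Agent.H64.Boot2
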