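import Groth.Agent.H64.Boot2.FromQuot
import Groth.Agent.H65.AlgSpBoot2
import Groth.Agent.H50.LocPBase
import Groth.Agent.H53.Epi
import Groth.Agent.H65.QuotSpFppf
import Groth.Agent.H53.ZMT.MonoUnram

/-!
# Final bootstrap: quotient of an algebraic space by a flat lfp equivalence relation

Conditional on `FinalHyp S` (the final bootstrap theorem for equivalence relations of schemes).
-/

set_option autoImplicit false
set_option backward.isDefEq.respectTransparency false
universe u
open CategoryTheory CategoryTheory.Limits AlgebraicGeometry Opposite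

namespace Groth.Agent.H64.Boot2

open AlgSp

variable {S : Scheme.{u}}

/-- A sheaf receiving an epimorphism from a scheme, whose kernel pair is an algebraic space with one
projection flat and locally of finite presentation, is an algebraic space. -/
theorem isAlgSpace_of_epi_kernelPair (H : FinalHyp S) {F P : Sp S} {U₀ : Over S}
    (q : (yon S).obj U₀ ⟶ F) [Epi q] (a b : P ⟶ (yon S).obj U₀) (sq : IsPullback a b q q)
    (hP : IsAlgSpace P) (hbfl : LocP @Flat b) (hbfp : LocP @LocallyOfFinitePresentation b) :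
    IsAlgSpace F := by
  obtain ⟨R, ⟨e⟩⟩ := Groth.Agent.H65.AlgSpBoot.exists_iso_yon_of_isPullback_of_lft sq hP (by
    intro U₁ c x hc _ h2
    have h3 : LocallyOfFinitePresentation (x ≫ (prod.snd : U₀ ⨯ U₀ ⟶ U₀)).left :=
      hbfp c (𝟙 _) (x ≫ prod.snd) hc (repWith_id _ U₀) (by rw [Category.comp_id]; exact h2)
    rw [Over.comp_left] at h3
    exact locallyOfFiniteType_of_comp x.left (prod.snd : U₀ ⨯ U₀ ⟶ U₀).left)
  obtain ⟨t, ht⟩ := (yon S).map_surjective (e.hom ≫ a)
  obtain ⟨s, hs⟩ := (yon S).map_surjective (e.hom ≫ b)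
  have sqR : IsPullback ((yon S).map t) ((yon S).map s) q q := by
    rw [ht, hs]
    exact IsPullback.of_iso sq e.symm (Iso.refl _) (Iso.refl _) (Iso.refl _)
      (by rw [Iso.symm_hom, Iso.refl_hom, Category.comp_id, Iso.inv_hom_id_assoc])
      (by rw [Iso.symm_hom, Iso.refl_hom, Category.comp_id, Iso.inv_hom_id_assoc])
      (by rw [Iso.refl_hom, Iso.refl_hom, Category.id_comp, Category.comp_id])
      (by rw [Iso.refl_hom, Iso.refl_hom, Category.id_comp, Category.comp_id])
  have hE : RepWith @Etale e.hom := Groth.Agent.H53.ZMT.repWith_of_isIso @Etale e.hom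
  have hsfl : Flat s.left :=
    hbfl e.hom (𝟙 _) s hE (repWith_id _ U₀) (by rw [Category.comp_id, hs])
  have hsfp : LocallyOfFinitePresentation s.left :=
    hbfp e.hom (𝟙 _) s hE (repWith_id _ U₀) (by rw [Category.comp_id, hs])
  -- the swap
  obtain ⟨σ, hσ⟩ := (yon S).map_surjective (sqR.lift ((yon S).map s) ((yon S).map t) sqR.w.symm)
  have hσs : σ ≫ s = t := by
    apply (yon S).map_injective
    rw [Functor.map_comp, hσ, sqR.lift_snd]
  have hσt : σ ≫ t = s := by
    apply (yon S).map_injective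
    rw [Functor.map_comp, hσ, sqR.lift_fst]
  have hσσ : σ ≫ σ = 𝟙 R := by
    apply (yon S).map_injective
    apply sqR.hom_ext
    · rw [← Functor.map_comp, Category.assoc, hσt, hσs, CategoryTheory.Functor.map_id,
        Category.id_comp]
    · rw [← Functor.map_comp, Category.assoc, hσs, hσt, CategoryTheory.Functor.map_id,
        Category.id_comp]
  have hσiso : IsIso σ := ⟨σ, hσσ, hσσ⟩
  have hσl : IsIso σ.left := (Over.forget S).map_isIso σ
  have htfl : Flat t.left := by rw [← hσs, Over.comp_left]; infer_instance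
  have htfp : LocallyOfFinitePresentation t.left := by rw [← hσs, Over.comp_left]; infer_instance
  have hEq : IsEqvRel s t := isEqvRel_of_isPullback s t q sqR
  obtain ⟨e'⟩ := nonempty_quot_iso s t q sqR
  exact (H s t hEq).of_iso e'

/-- **Final bootstrap for an equivalence relation of algebraic spaces**, conditional on the scheme
case. -/
theorem isAlgSpace_quotSp (H : FinalHyp S) {R U : Sp S} (hR : IsAlgSpace R) (hU : IsAlgSpace U)
    (s t : R ⟶ U) (hj : IsEqvRelSp s t)
    (hs : LocP @Flat s ∧ LocP @LocallyOfFinitePresentation s) :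
    IsAlgSpace (quotSp s t) := by
  obtain ⟨U₀, c₀, hcE, hcS⟩ := hU.atlas
  have hπ : IsPullback t s (quotSpπ s t) (quotSpπ s t) :=
    Groth.Agent.H65.QuotSpFppf.isPullback_quotSpπ s t hj
  have : Epi c₀ := Groth.Agent.H53.epi_of_repWith_etale_surjective c₀ hcE hcS
  have : Epi (quotSpπ s t) := inferInstance
  have hq : Epi (c₀ ≫ quotSpπ s t) := epi_comp _ _
  -- `P₁ = U₀ ×_U R`
  have sq1 : IsPullback (pullback.fst c₀ t) (pullback.snd c₀ t) c₀ t := IsPullback.of_hasPullback _ _
  have hP1 : IsAlgSpace (pullback c₀ t) :=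
    Groth.Agent.H49.isAlgSpace_of_isPullback sq1 hU.diag (IsAlgSpace.yon_obj U₀) hR
  have hsnd1 : RepWith @Etale (pullback.snd c₀ t) :=
    MorphismProperty.of_isPullback (P := RepWith (S := S) @Etale) sq1 hcE
  -- `P₂ = P₁ ×_U U₀`
  have sq2 : IsPullback (pullback.fst (pullback.snd c₀ t ≫ s) c₀)
      (pullback.snd (pullback.snd c₀ t ≫ s) c₀) (pullback.snd c₀ t ≫ s) c₀ :=
    IsPullback.of_hasPullback _ _
  have hP2 : IsAlgSpace (pullback (pullback.snd c₀ t ≫ s) c₀) :=
    Groth.Agent.H49.isAlgSpace_of_isPullback sq2 hU.diag hP1 (IsAlgSpace.yon_obj U₀)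
  have hfl1 : LocP @Flat (pullback.snd c₀ t ≫ s) :=
    Groth.Agent.H50.goodClass_flat.locP_comp hR _ _
      (Groth.Agent.H50.goodClass_flat.locP_of_repWith_etale _ hsnd1) hs.1
  have hfp1 : LocP @LocallyOfFinitePresentation (pullback.snd c₀ t ≫ s) :=
    Groth.Agent.H50.goodClass_lfp.locP_comp hR _ _
      (Groth.Agent.H50.goodClass_lfp.locP_of_repWith_etale _ hsnd1) hs.2
  have hfl2 : LocP @Flat (pullback.snd (pullback.snd c₀ t ≫ s) c₀) :=
    Groth.Agent.H50.goodClass_flat.locP_of_isPullback hP1 hU (IsAlgSpace.yon_obj U₀) _ _ _ _ sq2 hfl1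
  have hfp2 : LocP @LocallyOfFinitePresentation (pullback.snd (pullback.snd c₀ t ≫ s) c₀) :=
    Groth.Agent.H50.goodClass_lfp.locP_of_isPullback hP1 hU (IsAlgSpace.yon_obj U₀) _ _ _ _ sq2 hfp1
  -- pasting
  have sqV : IsPullback (pullback.fst c₀ t) (pullback.snd c₀ t ≫ s) (c₀ ≫ quotSpπ s t)
      (quotSpπ s t) := sq1.paste_vert hπ
  have sqH : IsPullback (pullback.fst (pullback.snd c₀ t ≫ s) c₀ ≫ pullback.fst c₀ t)
      (pullback.snd (pullback.snd c₀ t ≫ s) c₀) (c₀ ≫ quotSpπ s t) (c₀ ≫ quotSpπ s t) :=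
    (sq2.flip.paste_vert sqV.flip).flip
  exact isAlgSpace_of_epi_kernelPair H (c₀ ≫ quotSpπ s t) _ _ sqH hP2 hfl2 hfp2

end Groth.Agent.H64.Boot2
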